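import Groth.Agent.DimFunLift.Local
import Groth.Agent.CycLib.DimFun
import Groth.Agent.FlatEquidim.Scheme
import Groth.Agent.DimTheory.Scheme
import Groth.Prelude.Def_Cyc

/-!
Dimension functions lift along morphisms locally of finite type.
-/

set_option autoImplicit false
set_option linter.style.haveILetI false
set_option backward.isDefEq.respectTransparency.types false

universe u

open AlgebraicGeometry CategoryTheory IsLocalRing

namespace Groth.Agent.DimFunLift

theorem dim_localization_quotient_eq {S : Scheme.{u}} {δ : S → ℤ} (hδ : Cyc.IsDimFun S δ)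
    {V : S.Opens} (hV : IsAffineOpen V) {a b : S} (ha : a ∈ V) (hb : b ∈ V) (h : a ⤳ b) :
    ringKrullDim (Localization.AtPrime (hV.primeIdealOf ⟨b, hb⟩).asIdeal ⧸
      (hV.primeIdealOf ⟨a, ha⟩).asIdeal.map
        (algebraMap Γ(S, V) (Localization.AtPrime (hV.primeIdealOf ⟨b, hb⟩).asIdeal))) =
      ((δ a - δ b).toNat : WithBot ℕ∞) := by
  rw [← CycLib.ringKrullDim_locQuot hδ h]
  letI := TopCat.Presheaf.algebra_section_stalk S.presheaf (⟨b, hb⟩ : V)
  haveI : IsLocalization.AtPrime (S.presheaf.stalk b) (hV.primeIdealOf ⟨b, hb⟩).asIdeal :=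
    hV.isLocalization_stalk ⟨b, hb⟩
  let e := IsLocalization.algEquiv (hV.primeIdealOf ⟨b, hb⟩).asIdeal.primeCompl
    (Localization.AtPrime (hV.primeIdealOf ⟨b, hb⟩).asIdeal) (S.presheaf.stalk b)
  have hc : (RingHom.ker (Cyc.specMap b a h)).comap (algebraMap Γ(S, V) (S.presheaf.stalk b)) =
      (hV.primeIdealOf ⟨a, ha⟩).asIdeal := by
    rw [← DimTheory.ker_evaluation hV ha]
    ext r
    show (S.presheaf.stalkSpecializes h ≫ S.residue a).hom (S.presheaf.germ V b hb r) = 0 ↔ _
    rw [RingHom.mem_ker, CommRingCat.comp_apply, CommRingCat.comp_apply,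
      TopCat.Presheaf.germ_stalkSpecializes_apply]
  have hk : RingHom.ker (Cyc.specMap b a h) =
      (hV.primeIdealOf ⟨a, ha⟩).asIdeal.map (algebraMap Γ(S, V) (S.presheaf.stalk b)) := by
    rw [← hc, IsLocalization.map_under (hV.primeIdealOf ⟨b, hb⟩).asIdeal.primeCompl]
  refine ringKrullDim_eq_of_ringEquiv (Ideal.quotientEquiv _ _ e.toRingEquiv ?_)
  rw [hk, Ideal.map_map]
  congr 1
  ext r
  exact (e.commutes r).symm

/-- A dimension function on the base induces one on a scheme locally of finite type over it. -/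
theorem isDimFun_of_deltaCompat {X S : Scheme.{u}} (f : X ⟶ S) [LocallyOfFiniteType f] (δS : S → ℤ)
    (hS : Cyc.IsSetup S δS) (δX : X → ℤ) (hδ : Cyc.DeltaCompat f δX δS) : Cyc.IsDimFun X δX := by
  obtain ⟨hN, hUC, hdim⟩ := hS
  intro x y hxy hne
  obtain ⟨V, hV, hyV, -⟩ := exists_isAffineOpen_mem_and_subset (X := S) (x := f y) (U := ⊤) trivial
  obtain ⟨U1, hU1, hyU, hle⟩ := exists_isAffineOpen_mem_and_subset (X := X) (x := y) (U := f ⁻¹ᵁ V) hyV
  have hxU : x ∈ U1 := hxy.mem_open U1.isOpen hyU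
  letI : Algebra Γ(S, V) Γ(X, U1) := (f.appLE V U1 hle).hom.toAlgebra
  haveI : Algebra.FiniteType Γ(S, V) Γ(X, U1) := f.finiteType_appLE hV hU1 hle
  haveI : IsNoetherianRing Γ(S, V) := IsLocallyNoetherian.component_noetherian ⟨V, hV⟩
  haveI : IsNoetherianRing Γ(X, U1) := Algebra.FiniteType.isNoetherianRing Γ(S, V) _
  have hcomap : ∀ (z : X) (hz : z ∈ U1),
      (hU1.primeIdealOf ⟨z, hz⟩).asIdeal.LiesOver (hV.primeIdealOf ⟨f z, hle hz⟩).asIdeal := fun z hz =>
    ⟨(congrArg PrimeSpectrum.asIdeal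
      (IsAffineOpen.comap_primeIdealOf_appLE (f := f) V hV U1 hU1 hle hz)).symm⟩
  let P := (hU1.primeIdealOf ⟨y, hyU⟩).asIdeal
  let P0 := (hU1.primeIdealOf ⟨x, hxU⟩).asIdeal
  let p := (hV.primeIdealOf ⟨f y, hle hyU⟩).asIdeal
  let p0 := (hV.primeIdealOf ⟨f x, hle hxU⟩).asIdeal
  haveI : P.LiesOver p := hcomap y hyU
  haveI : P0.LiesOver p0 := hcomap x hxU
  have hP0P : P0 ≤ P := (FlatEquidim.specializes_iff_le hU1 hyU hxU).1 hxy
  have hfxy : f x ⤳ f y := hxy.map f.continuous
  letI := TopCat.Presheaf.algebra_section_stalk S.presheaf (⟨f y, hle hyU⟩ : V)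
  haveI : IsLocalization.AtPrime (S.presheaf.stalk (f y)) p := hV.isLocalization_stalk ⟨f y, hle hyU⟩
  let ε := (IsLocalization.algEquiv p.primeCompl (Localization.AtPrime p) (S.presheaf.stalk (f y))).symm.toRingEquiv
  have hUCp : CAlg.IsUniversallyCatenary (Localization.AtPrime p) :=
    LeadExc.isUniversallyCatenary_of_surjective ε.toRingHom ε.surjective (hUC (f y))
  have htr : ∀ (z : X) (hz : z ∈ U1), ∃ n : ℕ, Algebra.trdeg (Γ(S, V) ⧸ (hV.primeIdealOf ⟨f z, hle hz⟩).asIdeal)
      (Γ(X, U1) ⧸ (hU1.primeIdealOf ⟨z, hz⟩).asIdeal) = n ∧ δX z = δS (f z) + n := by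
    intro z hz
    obtain ⟨n, hn, hn'⟩ := hδ z
    refine ⟨n, ?_, hn'⟩
    rw [← hn]
    haveI := hcomap z hz
    letI : Algebra Γ(S, V) (S.residueField (f z)) := (S.presheaf.germ V (f z) (hle hz) ≫ S.residue (f z)).hom.toAlgebra
    letI : Algebra Γ(X, U1) (X.residueField z) := (X.presheaf.germ U1 z hz ≫ X.residue z).hom.toAlgebra
    letI : Algebra (S.residueField (f z)) (X.residueField z) := (f.residueFieldMap z).hom.toAlgebra
    exact (EquidimChart.trdeg_quot (K := S.residueField (f z)) (L := X.residueField z)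
      (FlatEquidim.evaluation_comp f hle hz) (DimTheory.exists_eq_div hV (hle hz))
      (DimTheory.exists_eq_div hU1 hz) _ _ (DimTheory.ker_evaluation hU1 hz)).symm
  obtain ⟨t, ht, ht'⟩ := htr y hyU
  obtain ⟨e, he, he'⟩ := htr x hxU
  obtain ⟨h, d, hh, hd, hsum⟩ := dim_localization_quotient p P hUCp P0 p0 hP0P e t he ht
  have hd2 := dim_localization_quotient_eq hdim hV (hle hxU) (hle hyU) hfxy
  rw [hd] at hd2
  have hd3 : d = (δS (f x) - δS (f y)).toNat := by exact_mod_cast hd2
  have hle' := CycLib.delta_le hdim hfxy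
  have hdiff : δX x - δX y = h := by omega
  have hmax : (maximalIdeal (Localization.AtPrime P)).under Γ(X, U1) = P :=
    Localization.AtPrime.under_maximalIdeal
  have hPne : P0 ≠ P := fun he => hne (congrArg Subtype.val
    ((hU1.isoSpec.hom.isOpenEmbedding.injective) (PrimeSpectrum.ext he) : (⟨x, hxU⟩ : U1) = ⟨y, hyU⟩))
  have hI : (P0.map (algebraMap Γ(X, U1) (Localization.AtPrime P))).IsPrime :=
    IsLocalization.isPrime_of_isPrime_disjoint P.primeCompl _ P0 inferInstance
      (Set.disjoint_left.2 fun a ha ha' => ha (hP0P ha'))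
  have hIc : (P0.map (algebraMap Γ(X, U1) (Localization.AtPrime P))).comap
      (algebraMap Γ(X, U1) (Localization.AtPrime P)) = P0 :=
    IsLocalization.under_map_of_isPrime_disjoint P.primeCompl _ inferInstance
      (Set.disjoint_left.2 fun a ha ha' => ha (hP0P ha'))
  rw [ringKrullDim_quotient] at hh
  let A := Localization.AtPrime P
  let I := P0.map (algebraMap Γ(X, U1) A)
  have hpos : 1 ≤ h := by
    have hIm : (⟨I, hI⟩ : PrimeSpectrum A) < ⟨maximalIdeal A, inferInstance⟩ := by
      refine lt_of_le_of_ne (le_maximalIdeal hI.ne_top) fun he => hPne ?_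
      have he' : I = maximalIdeal A := congrArg PrimeSpectrum.asIdeal he
      rw [← hIc, show P0.map (algebraMap Γ(X, U1) (Localization.AtPrime P)) = maximalIdeal A from he']
      exact hmax
    let s : LTSeries (PrimeSpectrum.zeroLocus (I : Set A)) :=
      { length := 1
        toFun := ![⟨⟨I, hI⟩, show I ≤ I from le_rfl⟩,
          ⟨⟨maximalIdeal A, inferInstance⟩, le_maximalIdeal hI.ne_top⟩]
        step := fun i => by
          obtain rfl : i = 0 := Subsingleton.elim _ _
          exact hIm }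
    have h1 : (1 : WithBot ℕ∞) ≤ h := hh ▸ Order.LTSeries.length_le_krullDim s
    have : (1 : ℕ) ≤ h := by exact_mod_cast h1
    exact this
  refine ⟨by omega, fun himm => ?_⟩
  suffices h ≤ 1 by omega
  have h1 : (h : WithBot ℕ∞) ≤ 1 := by
      rw [← hh]
      refine iSup_le fun s => ?_
      by_contra hlt
      have h2 : 2 ≤ s.length := by
        by_contra h2
        exact hlt (by exact_mod_cast (show s.length ≤ 1 by omega))
      let c0 := (s ⟨0, by omega⟩).1
      let c1 := (s ⟨1, by omega⟩).1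
      let c2 := (s ⟨2, by omega⟩).1
      have h01 : c0 < c1 := s.step ⟨0, by omega⟩
      have h12 : c1 < c2 := s.step ⟨1, by omega⟩
      have hI1 : P0.map (algebraMap Γ(X, U1) A) ≤ c1.asIdeal :=
        le_trans (s ⟨0, by omega⟩).2 h01.le
      obtain ⟨z, hzU, hzQ⟩ := FlatEquidim.exists_point hU1 ⟨c1.asIdeal.comap (algebraMap Γ(X, U1) A), inferInstance⟩
      have hzQ' : (hU1.primeIdealOf ⟨z, hzU⟩).asIdeal = c1.asIdeal.comap (algebraMap Γ(X, U1) A) :=
        congrArg PrimeSpectrum.asIdeal hzQ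
      have hinj : ∀ Q Q' : Ideal A, Q.comap (algebraMap Γ(X, U1) A) = Q'.comap (algebraMap Γ(X, U1) A) →
          Q = Q' := fun Q Q' he => by
        rw [← IsLocalization.map_under P.primeCompl A Q, ← IsLocalization.map_under P.primeCompl A Q']
        exact congrArg (Ideal.map _) he
      have hxz : x ⤳ z := (FlatEquidim.specializes_iff_le hU1 hzU hxU).2 (by
        rw [hzQ']; exact Ideal.map_le_iff_le_comap.1 hI1)
      have hzy : z ⤳ y := (FlatEquidim.specializes_iff_le hU1 hyU hzU).2 (by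
        rw [hzQ']
        exact (Ideal.comap_mono (le_maximalIdeal c1.2.ne_top)).trans hmax.le)
      rcases himm z hxz hzy with rfl | rfl
      · have he : c1.asIdeal = P0.map (algebraMap Γ(X, U1) A) := hinj _ _ (hzQ'.symm.trans hIc.symm)
        exact not_lt_of_ge (show c1 ≤ c0 from he.le.trans (s ⟨0, by omega⟩).2) h01
      · have he : c1.asIdeal = maximalIdeal A := hinj _ _ (hzQ'.symm.trans hmax.symm)
        exact not_lt_of_ge (show c2 ≤ c1 from (le_maximalIdeal c2.2.ne_top).trans he.ge) h12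
  exact_mod_cast h1

end Groth.Agent.DimFunLift
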