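import Groth.Agent.EquidimChart.DimEq

/-!
The dimension formula for `S_P/P₀` over `R_p/p₀`.
-/

set_option autoImplicit false
set_option linter.style.haveILetI false
set_option backward.isDefEq.respectTransparency.types false

universe u

open IsLocalRing

namespace Groth.Agent.DimFunLift

/- The dimension of `S_P/P₀` from that of `R_p`. -/
set_option maxHeartbeats 1000000 in
theorem dim_localization_quotient {R S : Type u} [CommRing R] [CommRing S] [Algebra R S]
    [Algebra.FiniteType R S] (p : Ideal R) [p.IsPrime] (P : Ideal S) [P.IsPrime] [P.LiesOver p]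
    (hUC : CAlg.IsUniversallyCatenary (Localization.AtPrime p))
    (P0 : Ideal S) [P0.IsPrime] (p0 : Ideal R) [p0.IsPrime] [P0.LiesOver p0] (hle : P0 ≤ P)
    (e t : ℕ) (he : Algebra.trdeg (R ⧸ p0) (S ⧸ P0) = e)
    (ht : Algebra.trdeg (R ⧸ p) (S ⧸ P) = t) :
    ∃ h d : ℕ, ringKrullDim (Localization.AtPrime P ⧸ P0.map (algebraMap S (Localization.AtPrime P))) = (h : WithBot ℕ∞) ∧
      ringKrullDim (Localization.AtPrime p ⧸ p0.map (algebraMap R (Localization.AtPrime p))) = (d : WithBot ℕ∞) ∧ h + t = d + e := by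
  haveI := hUC.1
  let M := p.primeCompl
  let T := S ⧸ P0
  let M' := Algebra.algebraMapSubmonoid T M
  let Rp := Localization.AtPrime p
  let T' := Localization M'
  have hp0p : p0 ≤ p := by rw [P0.over_def p0, P.over_def p]; exact Ideal.comap_mono hle
  have hM' : M' ≤ nonZeroDivisors T := by
    rintro _ ⟨r, hr, rfl⟩
    refine mem_nonZeroDivisors_of_ne_zero fun h => hr ?_
    apply hp0p
    rw [P0.over_def p0, Ideal.mem_comap]
    exact Ideal.Quotient.eq_zero_iff_mem.1 h
  haveI : IsDomain T' := IsLocalization.isDomain_localization hM'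
  haveI : IsScalarTower R Rp T' := inferInstance
  haveI : Algebra.IsPushout R Rp T T' := (Algebra.isPushout_of_isLocalization M Rp T T').symm
  haveI : Algebra.FiniteType Rp T' :=
    Algebra.FiniteType.equiv (Algebra.FiniteType.baseChange (R := R) (A := T) Rp) (Algebra.IsPushout.equiv R Rp T T')
  let k0 := RingHom.ker (algebraMap Rp T')
  haveI : k0.IsPrime := RingHom.ker_isPrime _
  let A0 := Rp ⧸ k0
  letI : Algebra A0 T' := (RingHom.kerLift (algebraMap Rp T')).toAlgebra
  haveI : IsScalarTower Rp A0 T' := @IsScalarTower.of_algebraMap_eq Rp A0 T' _ _ _ _ _ _ (fun _ => rfl)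
  haveI : FaithfulSMul A0 T' := (faithfulSMul_iff_algebraMap_injective _ _).2 (RingHom.kerLift_injective _)
  haveI : Algebra.FiniteType A0 T' := Algebra.FiniteType.of_restrictScalars_finiteType Rp A0 T'
  have hUC0 : CAlg.IsUniversallyCatenary A0 :=
    LeadExc.isUniversallyCatenary_of_surjective (Ideal.Quotient.mk k0) Ideal.Quotient.mk_surjective hUC
  -- the algebra maps from `R`
  have hR : ∀ r : R, algebraMap A0 T' (Ideal.Quotient.mk k0 (algebraMap R Rp r)) =
      algebraMap T T' (Ideal.Quotient.mk P0 (algebraMap R S r)) := fun r => by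
    show algebraMap Rp T' (algebraMap R Rp r) = _
    rw [← IsScalarTower.algebraMap_apply, IsScalarTower.algebraMap_apply R T T']
    rfl
  have hk0 : k0.comap (algebraMap R Rp) = p0 := by
    ext r
    rw [Ideal.mem_comap, RingHom.mem_ker, show algebraMap Rp T' (algebraMap R Rp r) = _ from hR r,
      (injective_iff_map_eq_zero' _).1 (IsLocalization.injective T' hM'), Ideal.Quotient.eq_zero_iff_mem, P0.over_def p0,
      Ideal.mem_comap]
  have hk0map : k0 = p0.map (algebraMap R Rp) := by rw [← hk0, IsLocalization.map_comap M Rp k0]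
  have hpP : ∀ r : R, r ∈ p ↔ algebraMap R S r ∈ P := fun r => by rw [P.over_def p]; rfl
  haveI : IsLocalRing A0 := IsLocalRing.of_surjective' (Ideal.Quotient.mk k0) Ideal.Quotient.mk_surjective
  haveI : IsNoetherianRing A0 := inferInstance
  obtain ⟨d, hdA0⟩ := LeadFCat.exists_dim A0
  -- the prime above `P`
  haveI : (P.map (Ideal.Quotient.mk P0)).IsPrime :=
    Ideal.map_isPrime_of_surjective Ideal.Quotient.mk_surjective (by rwa [Ideal.mk_ker])
  have hPb : ∀ s : S, Ideal.Quotient.mk P0 s ∈ P.map (Ideal.Quotient.mk P0) ↔ s ∈ P := fun s => by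
    rw [← Ideal.mem_comap, Ideal.comap_map_of_surjective _ Ideal.Quotient.mk_surjective, ← RingHom.ker_eq_comap_bot,
      Ideal.mk_ker, sup_of_le_left hle]
  have hdisj : Disjoint (M' : Set T) ((P.map (Ideal.Quotient.mk P0) : Ideal T) : Set T) := by
    rw [Set.disjoint_left]
    rintro _ ⟨r, hr, rfl⟩ h
    exact hr (by
      rw [show r ∈ (p : Set R) ↔ r ∈ p from Iff.rfl, P.over_def p, Ideal.mem_comap]
      exact (hPb _).1 h)
  let Q := (P.map (Ideal.Quotient.mk P0)).map (algebraMap T T')
  haveI hQp : Q.IsPrime := IsLocalization.isPrime_of_isPrime_disjoint M' T' _ inferInstance hdisj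
  have hQc : ∀ s : S, algebraMap T T' (Ideal.Quotient.mk P0 s) ∈ Q ↔ s ∈ P := fun s => by
    rw [← hPb s, ← Ideal.mem_comap]
    exact SetLike.ext_iff.1 (IsLocalization.under_map_of_isPrime_disjoint M' T' inferInstance hdisj) _
  let q := maximalIdeal A0
  haveI hQq : Q.LiesOver q := by
    refine ⟨(le_antisymm (le_maximalIdeal (Ideal.IsPrime.comap _ : (Q.comap (algebraMap A0 T')).IsPrime).ne_top) ?_).symm⟩
    intro a ha
    obtain ⟨a, rfl⟩ := Ideal.Quotient.mk_surjective a
    obtain ⟨⟨r, s⟩, hrs⟩ := IsLocalization.surj M a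
    have ha' : a ∈ maximalIdeal Rp := fun hu => ha (hu.map (Ideal.Quotient.mk k0))
    have hr : r ∈ p := by
      have : r ∈ (maximalIdeal Rp).under R := (show algebraMap R Rp r ∈ maximalIdeal Rp from hrs ▸ Ideal.mul_mem_right _ _ ha')
      rwa [Localization.AtPrime.under_maximalIdeal] at this
    have hs : algebraMap A0 T' (Ideal.Quotient.mk k0 (algebraMap R Rp s)) ∉ Q := fun h => s.2 (by
      rw [hR, hQc, ← hpP] at h
      exact h)
    refine (hQp.mem_or_mem (show algebraMap A0 T' (Ideal.Quotient.mk k0 a) * _ ∈ Q from ?_)).resolve_right hs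
    rw [← map_mul, ← map_mul, hrs, hR, hQc, ← hpP]
    exact hr
  obtain ⟨h, h', t', e', hh, hh', ht', he', hsum⟩ := LeadFCat.dimEq hUC0 T' q Q
  -- heights
  have hd' : h' = d := by
    have := IsLocalRing.maximalIdeal_height_eq_ringKrullDim (R := A0)
    rw [show maximalIdeal A0 = q from rfl, hh', hdA0] at this
    exact_mod_cast this
  subst hd'
  refine ⟨h, h', ?_, by rw [← hk0map]; exact hdA0, ?_⟩
  · have hsub : Algebra.algebraMapSubmonoid T P.primeCompl = (P.map (Ideal.Quotient.mk P0)).primeCompl := by
      ext x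
      obtain ⟨x, rfl⟩ := Ideal.Quotient.mk_surjective x
      refine ⟨?_, fun hx => ⟨x, fun hx' => hx ((hPb x).2 hx'), rfl⟩⟩
      rintro ⟨y, hy, hyx⟩ hmem
      exact hy ((hPb y).1 (show Ideal.Quotient.mk P0 y ∈ _ by rw [show Ideal.Quotient.mk P0 y = _ from hyx]; exact hmem))
    haveI : IsLocalization.AtPrime (Localization.AtPrime P ⧸ P0.map (algebraMap S (Localization.AtPrime P)))
        (P.map (Ideal.Quotient.mk P0)) := by
      change IsLocalization (P.map (Ideal.Quotient.mk P0)).primeCompl _
      rw [← hsub]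
      infer_instance
    rw [IsLocalization.AtPrime.ringKrullDim_eq_height (P.map (Ideal.Quotient.mk P0)),
      ← IsLocalization.height_map_of_disjoint (S := T') M' _ hdisj, hh]
    rfl
  · -- transcendence degrees
    have hlocA : ∀ (K : Type u) [Field K] (φ : A0 →+* K) (a : A0), ∃ r s : R,
        a * (Ideal.Quotient.mk k0).comp (algebraMap R Rp) s = (Ideal.Quotient.mk k0).comp (algebraMap R Rp) r ∧
          φ ((Ideal.Quotient.mk k0).comp (algebraMap R Rp) s) ≠ 0 := fun K _ φ a => by
      obtain ⟨a, rfl⟩ := Ideal.Quotient.mk_surjective a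
      obtain ⟨⟨r, s⟩, hrs⟩ := IsLocalization.surj M a
      exact ⟨r, s, congrArg (Ideal.Quotient.mk k0) hrs,
        (((IsLocalization.map_units Rp s).map (Ideal.Quotient.mk k0)).map φ).ne_zero⟩
    have hlocT : ∀ (L : Type u) [Field L] (φ : T' →+* L) (a : T'), ∃ r s : S,
        a * (algebraMap T T').comp (Ideal.Quotient.mk P0) s = (algebraMap T T').comp (Ideal.Quotient.mk P0) r ∧
          φ ((algebraMap T T').comp (Ideal.Quotient.mk P0) s) ≠ 0 := fun L _ φ a => by
      obtain ⟨⟨r, ⟨s, hs⟩⟩, hrs⟩ := IsLocalization.surj M' a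
      obtain ⟨r, rfl⟩ := Ideal.Quotient.mk_surjective r
      obtain ⟨s, rfl⟩ := Ideal.Quotient.mk_surjective s
      exact ⟨r, s, hrs, (((IsLocalization.map_units T' (⟨_, hs⟩ : M'))).map φ).ne_zero⟩
    have hE : e' = e := by
      let K := FractionRing A0
      let L := FractionRing T'
      haveI : FaithfulSMul A0 L := (faithfulSMul_iff_algebraMap_injective _ _).2 (by
        rw [IsScalarTower.algebraMap_eq A0 T' L]
        exact (IsFractionRing.injective T' L).comp (FaithfulSMul.algebraMap_injective A0 T'))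
      letI : Algebra K L := (IsFractionRing.lift (K := K) (FaithfulSMul.algebraMap_injective A0 L)).toAlgebra
      haveI : IsScalarTower A0 K L := .of_algebraMap_eq fun a =>
        (IsFractionRing.lift_algebraMap (FaithfulSMul.algebraMap_injective A0 L) a).symm
      have h1 := EquidimChart.trdeg_frac A0 T' K L
      letI : Algebra R K := ((algebraMap A0 K).comp ((Ideal.Quotient.mk k0).comp (algebraMap R Rp))).toAlgebra
      letI : Algebra S L := ((algebraMap T' L).comp ((algebraMap T T').comp (Ideal.Quotient.mk P0))).toAlgebra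
      have hKc : ∀ z : K, ∃ a b, z = algebraMap R K a / algebraMap R K b := fun z =>
        EquidimChart.fractions_comp ((Ideal.Quotient.mk k0).comp (algebraMap R Rp)) (algebraMap A0 K) (hlocA K (algebraMap A0 K)) z (by
          obtain ⟨a, b, -, rfl⟩ := IsFractionRing.div_surjective A0 z
          exact ⟨a, b, rfl⟩)
      have hLc : ∀ z : L, ∃ a b, z = algebraMap S L a / algebraMap S L b := fun z =>
        EquidimChart.fractions_comp ((algebraMap T T').comp (Ideal.Quotient.mk P0)) (algebraMap T' L) (hlocT L (algebraMap T' L)) z (by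
          obtain ⟨a, b, -, rfl⟩ := IsFractionRing.div_surjective T' z
          exact ⟨a, b, rfl⟩)
      have h2 := EquidimChart.trdeg_quot (R := R) (S := S) (K := K) (L := L) (fun r => by
          show algebraMap T' L _ = algebraMap K L (algebraMap A0 K (Ideal.Quotient.mk k0 (algebraMap R Rp r)))
          rw [← IsScalarTower.algebraMap_apply A0 K L, IsScalarTower.algebraMap_apply A0 T' L, hR]) hKc hLc p0 P0 (by
          ext s
          show algebraMap T' L (algebraMap T T' (Ideal.Quotient.mk P0 s)) = 0 ↔ _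
          rw [(injective_iff_map_eq_zero' _).1 (IsFractionRing.injective T' L),
            (injective_iff_map_eq_zero' _).1 (IsLocalization.injective T' hM'), Ideal.Quotient.eq_zero_iff_mem])
      rw [← h1, h2, he] at he'
      exact_mod_cast he'.symm
    have hT : t' = t := by
      let K := A0 ⧸ q
      letI : Field K := Ideal.Quotient.field q
      let L := FractionRing (T' ⧸ Q)
      letI : Algebra A0 K := inferInstanceAs (Algebra A0 (A0 ⧸ q))
      have hker1 : RingHom.ker (algebraMap T' L) = Q := by
        ext z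
        rw [RingHom.mem_ker, IsScalarTower.algebraMap_apply T' (T' ⧸ Q) L, Ideal.Quotient.algebraMap_eq]
        rw [(injective_iff_map_eq_zero' _).1 (IsFractionRing.injective (T' ⧸ Q) L), Ideal.Quotient.eq_zero_iff_mem]
      have hK0 : ∀ z : K, ∃ a, z = algebraMap A0 K a := fun z => by
        obtain ⟨a, rfl⟩ := Ideal.Quotient.mk_surjective z
        exact ⟨a, rfl⟩
      have hL0 : ∀ z : L, ∃ a b, z = algebraMap T' L a / algebraMap T' L b := fun z => by
        obtain ⟨a, b, -, rfl⟩ := IsFractionRing.div_surjective (T' ⧸ Q) z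
        obtain ⟨a, rfl⟩ := Ideal.Quotient.mk_surjective a
        obtain ⟨b, rfl⟩ := Ideal.Quotient.mk_surjective b
        exact ⟨a, b, rfl⟩
      have hKf : ∀ z : K, ∃ a b, z = algebraMap A0 K a / algebraMap A0 K b := fun z => by
        obtain ⟨a, rfl⟩ := hK0 z
        exact ⟨a, 1, by simp⟩
      have h1 := EquidimChart.trdeg_quot (R := A0) (S := T') (K := K) (L := L) (fun r => rfl)
        hKf hL0 q Q hker1
      letI : Algebra R K := ((algebraMap A0 K).comp ((Ideal.Quotient.mk k0).comp (algebraMap R Rp))).toAlgebra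
      letI : Algebra S L := ((algebraMap T' L).comp ((algebraMap T T').comp (Ideal.Quotient.mk P0))).toAlgebra
      have hKc : ∀ z : K, ∃ a b, z = algebraMap R K a / algebraMap R K b := fun z =>
        EquidimChart.fractions_comp ((Ideal.Quotient.mk k0).comp (algebraMap R Rp)) (algebraMap A0 K) (hlocA K (algebraMap A0 K)) z (hKf z)
      have hLc : ∀ z : L, ∃ a b, z = algebraMap S L a / algebraMap S L b := fun z =>
        EquidimChart.fractions_comp ((algebraMap T T').comp (Ideal.Quotient.mk P0)) (algebraMap T' L) (hlocT L (algebraMap T' L)) z (hL0 z)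
      have h2 := EquidimChart.trdeg_quot (R := R) (S := S) (K := K) (L := L) (fun r => by
          show algebraMap T' L _ = algebraMap T' L (algebraMap A0 T' (Ideal.Quotient.mk k0 (algebraMap R Rp r)))
          rw [hR]; rfl) hKc hLc p P (by
          ext s
          rw [← hQc s]
          exact SetLike.ext_iff.1 hker1 (algebraMap T T' (Ideal.Quotient.mk P0 s)))
      rw [← h1, h2, ht] at ht'
      exact_mod_cast ht'.symm
    omega

end Groth.Agent.DimFunLift
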