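import Groth.Prelude.Def_Cyc
import Groth.Agent.FlatEquidim.Scheme
import Groth.Agent.DimTheory.Scheme
import Groth.Agent.DimTheory.Fibre
import Mathlib.RingTheory.LocalRing.Length

/-!
Relative dimension and lengths for composites of flat morphisms.
-/

set_option autoImplicit false
set_option linter.style.haveILetI false
set_option backward.isDefEq.respectTransparency.types false

universe u

open AlgebraicGeometry CategoryTheory IsLocalRing
open scoped TensorProduct

namespace Groth.Agent.DimFunLift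

variable {X Y Z : Scheme.{u}} (f : X ⟶ Y)

theorem height_fiber [LocallyOfFiniteType f] (s : Y) (m : f.fiber s) :
    ∃ n : ℕ, DimTheory.mapTrdeg f (f.fiberι s m) = n ∧ Order.height m = n := by
  have : LocallyOfFiniteType (f.fiberToSpecResidueField s) := MorphismProperty.pullback_snd _ _ ‹_›
  obtain ⟨n, hn, hn'⟩ :=
    DimTheory.exists_height_eq (k := Y.residueField s) (f.fiberToSpecResidueField s) m
  exact ⟨n, by rw [← FlatEquidim.resTrdeg_fiber_eq]; exact hn, hn'⟩

theorem exists_generic {S : Scheme.{u}} (m : S) :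
    ∃ g : S, g ⤳ m ∧ closure {g} ∈ irreducibleComponents ↥S := by
  have hirr := isIrreducible_irreducibleComponent (x := m)
  refine ⟨hirr.genericPoint, specializes_iff_mem_closure.2 ?_, ?_⟩
  · rw [hirr.genericPoint_closure_eq]
    exact subset_closure mem_irreducibleComponent
  · rw [hirr.genericPoint_closure_eq, isClosed_irreducibleComponent.closure_eq]
    exact irreducibleComponent_mem_irreducibleComponents m

theorem mapTrdeg_le [LocallyOfFiniteType f] {r : ℕ} (hr : Cyc.HasRelDim f r) (x : X) :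
    ∃ n : ℕ, DimTheory.mapTrdeg f x = n ∧ n ≤ r := by
  obtain ⟨n, hn, hn'⟩ := height_fiber f (f x) (f.asFiber x)
  rw [f.fiberι_asFiber] at hn
  obtain ⟨g, hg, hgT⟩ := exists_generic (f.asFiber x)
  have hd := hr (f x) _ hgT
  rw [DimTheory.topologicalKrullDim_closure] at hd
  have hd' : Order.height g = (r : ℕ∞) := by exact_mod_cast hd
  refine ⟨n, hn, ?_⟩
  have := Order.height_mono (show f.asFiber x ≤ g from hg)
  rw [hn', hd'] at this
  exact_mod_cast this

theorem mapTrdeg_eq [LocallyOfFiniteType f] {r : ℕ} (hr : Cyc.HasRelDim f r) {x : X}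
    (hx : FlatEquidim.IsFibreMax f x) : DimTheory.mapTrdeg f x = r := by
  obtain ⟨n, hn, hn'⟩ := height_fiber f (f x) (f.asFiber x)
  rw [f.fiberι_asFiber] at hn
  obtain ⟨g, hg, hgT⟩ := exists_generic (f.asFiber x)
  have hgx : g = f.asFiber x := by
    refine (f.fiberι (f x)).isEmbedding.injective ?_
    rw [f.fiberι_asFiber]
    refine hx _ ?_ (FlatEquidim.fiberι_apply_eq f _ g)
    have h := hg.map (f.fiberι (f x)).continuous
    rwa [f.fiberι_asFiber] at h
  subst hgx
  have hd := hr (f x) _ hgT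
  rw [DimTheory.topologicalKrullDim_closure, hn'] at hd
  have : n = r := by exact_mod_cast hd
  rw [hn, this]

theorem isFibreMax_left {g : Y ⟶ Z} {x : X} (hx : FlatEquidim.IsFibreMax (f ≫ g) x) :
    FlatEquidim.IsFibreMax f x :=
  fun z hz he => hx z hz (by simp [he])

theorem isFibreMax_right [Flat f] {g : Y ⟶ Z} {x : X} (hx : FlatEquidim.IsFibreMax (f ≫ g) x) :
    FlatEquidim.IsFibreMax g (f x) := by
  intro w hw he
  obtain ⟨x', hx', hfx'⟩ := Flat.generalizingMap f hw
  have := hx x' hx' (by simp [hfx', he])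
  rw [← hfx', this]

theorem hasRelDim_comp [Flat f] [LocallyOfFiniteType f] (g : Y ⟶ Z) [LocallyOfFiniteType g]
    {r s : ℕ} (hr : Cyc.HasRelDim f r) (hs : Cyc.HasRelDim g s) :
    Cyc.HasRelDim (f ≫ g) (r + s) := by
  intro z T hT
  have hirr := hT.1
  have hcl : IsClosed T := isClosed_of_mem_irreducibleComponents T hT
  have hgen : closure {hirr.genericPoint} = T := by rw [hirr.genericPoint_closure_eq, hcl.closure_eq]
  generalize hirr.genericPoint = m at hgen
  obtain ⟨n, hn, hn'⟩ := height_fiber (f ≫ g) z m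
  have hmax : FlatEquidim.IsFibreMax (f ≫ g) ((f ≫ g).fiberι z m) := by
    refine fun w hw he => ?_
    have hwz : (f ≫ g) w = z := he.trans (FlatEquidim.fiberι_apply_eq _ _ m)
    obtain ⟨w, rfl⟩ : w ∈ Set.range ((f ≫ g).fiberι z) := by
      rw [Scheme.Hom.range_fiberι]; exact hwz
    have hwm : w ⤳ m := ((f ≫ g).fiberι z).isEmbedding.isInducing.specializes_iff.1 hw
    have hsub : closure {w} ⊆ T := hT.2 isIrreducible_singleton.closure (hgen ▸ hwm.closure_subset)
    have hmw : m ⤳ w := specializes_iff_mem_closure.2 (hgen ▸ hsub (subset_closure rfl))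
    rw [(hwm.antisymm hmw).eq]
  have e := FlatEquidim.mapTrdeg_comp f g ((f ≫ g).fiberι z m)
  rw [hn, mapTrdeg_eq f hr (isFibreMax_left f hmax), mapTrdeg_eq g hs (isFibreMax_right f hmax),
    ← Nat.cast_add] at e
  have : n = r + s := by
    have := Nat.cast_injective (R := Cardinal.{u}) e
    omega
  rw [← hgen, DimTheory.topologicalKrullDim_closure, hn', this]
  rfl

theorem length_comp [Flat f] (g : Y ⟶ Z) (x : X) :
    Module.length (X.presheaf.stalk x) (X.presheaf.stalk x ⧸
      Ideal.map ((f ≫ g).stalkMap x).hom (maximalIdeal (Z.presheaf.stalk ((f ≫ g) x)))) =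
    Module.length (Y.presheaf.stalk (f x)) (Y.presheaf.stalk (f x) ⧸
      Ideal.map (g.stalkMap (f x)).hom (maximalIdeal (Z.presheaf.stalk (g (f x))))) *
    Module.length (X.presheaf.stalk x) (X.presheaf.stalk x ⧸
      Ideal.map (f.stalkMap x).hom (maximalIdeal (Y.presheaf.stalk (f x)))) := by
  algebraize [(f.stalkMap x).hom]
  have : Module.Flat (Y.presheaf.stalk (f x)) (X.presheaf.stalk x) := Flat.stalkMap f x
  have : IsLocalHom (algebraMap (Y.presheaf.stalk (f x)) (X.presheaf.stalk x)) :=
    inferInstanceAs (IsLocalHom (f.stalkMap x).hom)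
  have h := IsLocalRing.length_baseChange (Y.presheaf.stalk (f x)) (X.presheaf.stalk x)
    (Y.presheaf.stalk (f x) ⧸ Ideal.map (g.stalkMap (f x)).hom (maximalIdeal (Z.presheaf.stalk (g (f x)))))
  rw [← (Algebra.TensorProduct.quotIdealMapEquivTensorQuot (X.presheaf.stalk x) (Ideal.map (g.stalkMap (f x)).hom (maximalIdeal (Z.presheaf.stalk (g (f x)))))).toLinearEquiv.length_eq] at h
  rw [Scheme.Hom.stalkMap_comp]
  exact (congrArg (fun I : Ideal (X.presheaf.stalk x) =>
      Module.length (X.presheaf.stalk x) (X.presheaf.stalk x ⧸ I))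
    (Ideal.map_map (g.stalkMap (f x)).hom (f.stalkMap x).hom
      (I := maximalIdeal (Z.presheaf.stalk (g (f x))))).symm).trans h

end Groth.Agent.DimFunLift
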