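import Groth.Agent.DimFunLift.RelDim
import Groth.Agent.DimFunLift.Basic
import Groth.Agent.CycLib.DimFun

/-!
A flat morphism locally of finite type between irreducible schemes has a relative dimension.
-/

set_option autoImplicit false
set_option linter.style.haveILetI false
set_option backward.isDefEq.respectTransparency.types false

universe u

open AlgebraicGeometry CategoryTheory IsLocalRing

namespace Groth.Agent.DimFunLift

theorem dim_stalk_eq_delta {X : Scheme.{u}} [IrreducibleSpace X] {δ : X → ℤ} (hδ : Cyc.IsDimFun X δ) (x : X) :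
    ringKrullDim (X.presheaf.stalk x) = ((δ (genericPoint X) - δ x).toNat : WithBot ℕ∞) := by
  have h : genericPoint X ⤳ x := genericPoint_specializes x
  rw [← CycLib.ringKrullDim_locQuot hδ h]
  show _ = ringKrullDim (X.presheaf.stalk x ⧸ RingHom.ker (Cyc.specMap x (genericPoint X) h))
  refine le_antisymm ?_ (ringKrullDim_le_of_surjective (Ideal.Quotient.mk _) Ideal.Quotient.mk_surjective)
  rw [ringKrullDim_quotient, show PrimeSpectrum.zeroLocus ((RingHom.ker (Cyc.specMap x (genericPoint X) h) :
      Ideal (X.presheaf.stalk x)) : Set (X.presheaf.stalk x)) = Set.univ from ?_]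
  · exact le_of_eq (Order.krullDim_eq_of_orderIso OrderIso.Set.univ.symm)
  refine Set.eq_univ_of_forall fun a => ?_
  have h1 : CycLib.specPrime h ≤ a := by
    rw [← CycLib.specializes_iff_le, CycLib.fromSpecStalk_specPrime]
    exact genericPoint_specializes _
  exact h1

theorem dim_stalk_eq_of_isFibreMax {X Y : Scheme.{u}} (f : X ⟶ Y) [Flat f] [IsLocallyNoetherian X]
    [IsLocallyNoetherian Y] {m : X} (hm : FlatEquidim.IsFibreMax f m) :
    ringKrullDim (X.presheaf.stalk m) = ringKrullDim (Y.presheaf.stalk (f m)) := by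
  letI : Algebra (Y.presheaf.stalk (f m)) (X.presheaf.stalk m) := (f.stalkMap m).hom.toAlgebra
  haveI : Module.Flat (Y.presheaf.stalk (f m)) (X.presheaf.stalk m) := Flat.stalkMap f m
  let P := maximalIdeal (X.presheaf.stalk m)
  let p := maximalIdeal (Y.presheaf.stalk (f m))
  haveI : P.LiesOver p := ⟨(congrArg PrimeSpectrum.asIdeal (IsLocalRing.comap_closedPoint (f.stalkMap m).hom)).symm⟩
  have hmax : ∀ Q : PrimeSpectrum (X.presheaf.stalk m),
      p.map (algebraMap (Y.presheaf.stalk (f m)) (X.presheaf.stalk m)) ≤ Q.asIdeal → Q.asIdeal = P := by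
    intro Q hQ
    have hQc : PrimeSpectrum.comap (f.stalkMap m).hom Q = IsLocalRing.closedPoint _ :=
      PrimeSpectrum.ext ((maximalIdeal.isMaximal _).eq_of_le (Ideal.IsPrime.ne_top inferInstance)
        (Ideal.map_le_iff_le_comap.1 hQ)).symm
    have hw : f (X.fromSpecStalk m Q) = f m := by
      rw [← Scheme.Hom.comp_apply, ← Scheme.SpecMap_stalkMap_fromSpecStalk, Scheme.Hom.comp_apply]
      show Y.fromSpecStalk (f m) (PrimeSpectrum.comap (f.stalkMap m).hom Q) = f m
      rw [hQc, Scheme.fromSpecStalk_closedPoint]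
    have h1 := hm _ (CycLib.fromSpecStalk_specializes Q) hw
    have h2 : Q = IsLocalRing.closedPoint _ :=
      (X.fromSpecStalk m).isEmbedding.injective (h1.trans Scheme.fromSpecStalk_closedPoint.symm)
    rw [h2]
    rfl
  have h := Ideal.height_eq_height_add_of_liesOver_of_hasGoingDown p P
  rw [show (P.map (Ideal.Quotient.mk (p.map (algebraMap (Y.presheaf.stalk (f m)) (X.presheaf.stalk m))))).height
      = 0 from ?_, add_zero] at h
  · rw [← IsLocalRing.maximalIdeal_height_eq_ringKrullDim, ← IsLocalRing.maximalIdeal_height_eq_ringKrullDim]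
    exact congrArg WithBot.some h
  have hle : p.map (algebraMap (Y.presheaf.stalk (f m)) (X.presheaf.stalk m)) ≤ P :=
    Ideal.map_le_iff_le_comap.2 (Ideal.over_def P p).le
  haveI : (P.map (Ideal.Quotient.mk (p.map (algebraMap (Y.presheaf.stalk (f m)) (X.presheaf.stalk m))))).IsPrime :=
    Ideal.map_isPrime_of_surjective Ideal.Quotient.mk_surjective (by rw [Ideal.mk_ker]; exact hle)
  rw [Ideal.height_eq_zero_iff]
  refine ⟨⟨inferInstance, bot_le⟩, fun Q hQ _ => ?_⟩
  haveI := hQ.1
  haveI : (Q.comap (Ideal.Quotient.mk (p.map (algebraMap (Y.presheaf.stalk (f m)) (X.presheaf.stalk m))))).IsPrime :=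
    Ideal.comap_isPrime _ Q
  have h1 : Q.comap (Ideal.Quotient.mk (p.map (algebraMap (Y.presheaf.stalk (f m)) (X.presheaf.stalk m)))) = P :=
    hmax ⟨Q.comap _, ‹_›⟩ ((Ideal.mk_ker (I := p.map (algebraMap _ (X.presheaf.stalk m)))).symm.le.trans
      (Ideal.comap_mono bot_le))
  rw [← h1, Ideal.map_comap_of_surjective _ Ideal.Quotient.mk_surjective]

theorem hasRelDim_of_flat_irreducible {X Y : Scheme.{u}} (f : X ⟶ Y) [Flat f] [LocallyOfFiniteType f]
    [IrreducibleSpace X] [IrreducibleSpace Y] (δX : X → ℤ) (δY : Y → ℤ) (hY : Cyc.IsSetup Y δY)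
    (hδ : Cyc.DeltaCompat f δX δY) :
    0 ≤ δX (genericPoint X) - δY (genericPoint Y) ∧
      Cyc.HasRelDim f (δX (genericPoint X) - δY (genericPoint Y)).toNat ∧
      ∀ x : X, topologicalKrullDim ↥(f.fiber (f x)) =
        ((δX (genericPoint X) - δY (genericPoint Y)).toNat : WithBot ℕ∞) := by
  haveI := hY.1
  haveI : IsLocallyNoetherian X := LocallyOfFiniteType.isLocallyNoetherian f
  have hX := isDimFun_of_deltaCompat f δY hY δX hδ
  have key : ∀ m, FlatEquidim.IsFibreMax f m →
      δX (genericPoint X) - δY (genericPoint Y) = δX m - δY (f m) := by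
    intro m hm
    have h := dim_stalk_eq_of_isFibreMax f hm
    rw [dim_stalk_eq_delta hX, dim_stalk_eq_delta hY.2.2] at h
    have h' : (δX (genericPoint X) - δX m).toNat = (δY (genericPoint Y) - δY (f m)).toNat := by
      exact_mod_cast h
    have h1 := CycLib.delta_le hX (genericPoint_specializes m)
    have h2 := CycLib.delta_le hY.2.2 (genericPoint_specializes (f m))
    omega
  have hgen := key (genericPoint X) fun w hw _ => (hw.antisymm (genericPoint_specializes w)).eq
  have hnn : 0 ≤ δX (genericPoint X) - δY (genericPoint Y) := by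
    obtain ⟨n, -, hn⟩ := hδ (genericPoint X)
    omega
  have hrel : Cyc.HasRelDim f (δX (genericPoint X) - δY (genericPoint Y)).toNat := by
    intro y T hT
    have hirr := hT.1
    have hcl : IsClosed T := isClosed_of_mem_irreducibleComponents T hT
    have hgT : closure {hirr.genericPoint} = T := by rw [hirr.genericPoint_closure_eq, hcl.closure_eq]
    generalize hirr.genericPoint = g at hgT
    obtain ⟨n, hn, hn'⟩ := height_fiber f y g
    have hm : FlatEquidim.IsFibreMax f (f.fiberι y g) := by
      intro w hw he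
      have hwy : f w = y := he.trans (FlatEquidim.fiberι_apply_eq _ _ g)
      obtain ⟨w, rfl⟩ : w ∈ Set.range (f.fiberι y) := by
        rw [Scheme.Hom.range_fiberι]; exact hwy
      have hwm : w ⤳ g := (f.fiberι y).isEmbedding.isInducing.specializes_iff.1 hw
      have hsub : closure {w} ⊆ T := hT.2 isIrreducible_singleton.closure (hgT ▸ hwm.closure_subset)
      have hmw : g ⤳ w := specializes_iff_mem_closure.2 (hgT ▸ hsub (subset_closure rfl))
      rw [(hwm.antisymm hmw).eq]
    obtain ⟨n', hn1, hn2⟩ := hδ (f.fiberι y g)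
    obtain rfl : n = n' := Nat.cast_injective (R := Cardinal.{u}) (hn.symm.trans hn1)
    rw [key _ hm, hn2, add_sub_cancel_left, Int.toNat_natCast, ← hgT, DimTheory.topologicalKrullDim_closure, hn']
    rfl
  refine ⟨hnn, hrel, fun x => ?_⟩
  rw [DimTheory.topologicalKrullDim_eq_iSup_height]
  refine le_antisymm (iSup_le fun z => ?_) ?_
  · obtain ⟨g, hg, hgT⟩ := exists_generic z
    rw [← hrel _ _ hgT, DimTheory.topologicalKrullDim_closure]
    exact WithBot.coe_le_coe.2 (Order.height_mono (show z ≤ g from hg))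
  · obtain ⟨g, -, hgT⟩ := exists_generic (f.asFiber x)
    rw [← hrel _ _ hgT, DimTheory.topologicalKrullDim_closure]
    exact le_iSup (fun z => ((Order.height z : ℕ∞) : WithBot ℕ∞)) g

end Groth.Agent.DimFunLift
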