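import Groth.Agent.DimFunLift.PullBC
import Groth.Agent.DCohBridge.StalkPull
import Groth.Prelude.Def_Coh

/-!
Flat pullback of the cycle of a coherent module.
-/

set_option autoImplicit false
set_option linter.style.haveILetI false
set_option backward.isDefEq.respectTransparency.types false

universe u

open AlgebraicGeometry CategoryTheory IsLocalRing
open scoped TensorProduct

namespace Groth.Agent.DimFunLift

variable {X Y : Scheme.{u}} (f : X ⟶ Y) (F : Y.Modules) (x : X)

theorem length_stalk_pullback [Flat f] :
    Module.length (X.presheaf.stalk x) (((Scheme.Modules.pullback f).obj F).presheaf.stalk x) =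
    Module.length (Y.presheaf.stalk (f x)) (F.presheaf.stalk (f x)) *
    Module.length (X.presheaf.stalk x) (X.presheaf.stalk x ⧸
      Ideal.map (f.stalkMap x).hom (maximalIdeal (Y.presheaf.stalk (f x)))) := by
  algebraize [(f.stalkMap x).hom]
  have : Module.Flat (Y.presheaf.stalk (f x)) (X.presheaf.stalk x) := Flat.stalkMap f x
  have : IsLocalHom (algebraMap (Y.presheaf.stalk (f x)) (X.presheaf.stalk x)) :=
    inferInstanceAs (IsLocalHom (f.stalkMap x).hom)
  refine ((DCohBridge.stalkPullIso f x).app F).toLinearEquiv.length_eq.trans ?_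
  exact IsLocalRing.length_baseChange (Y.presheaf.stalk (f x)) (X.presheaf.stalk x) (F.presheaf.stalk (f x))

theorem nontrivial_stalk_of_pullback (h : Nontrivial (((Scheme.Modules.pullback f).obj F).presheaf.stalk x)) :
    Nontrivial (F.presheaf.stalk (f x)) := by
  by_contra hn
  haveI : Subsingleton (F.presheaf.stalk (f x)) := not_nontrivial_iff_subsingleton.1 hn
  algebraize [(f.stalkMap x).hom]
  haveI : Subsingleton ((X.presheaf.stalk x) ⊗[Y.presheaf.stalk (f x)] (F.presheaf.stalk (f x))) :=
    inferInstance
  exact not_subsingleton_iff_nontrivial.2 h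
    (((DCohBridge.stalkPullIso f x).app F).toLinearEquiv.toEquiv.subsingleton_congr.2 this)

theorem sheafFun_pullback [Flat f] {δX : X → ℤ} (hX : Cyc.IsDimFun X δX) (δY : Y → ℤ) (c : ℤ)
    (hc : ∀ x, FlatEquidim.IsFibreMax f x → δX x = δY (f x) + c) (k : ℤ)
    (hdim : ∀ y : Y, Nontrivial (F.presheaf.stalk y) → δY y ≤ k) :
    (∀ x : X, Nontrivial (((Scheme.Modules.pullback f).obj F).presheaf.stalk x) → δX x ≤ k + c) ∧
      Cyc.pullFun f δX δY c (Cyc.sheafFun δY k F) =
        Cyc.sheafFun δX (k + c) ((Scheme.Modules.pullback f).obj F) := by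
  refine ⟨fun x hx => ?_, funext fun x => ?_⟩
  · obtain ⟨g, hg, hgT⟩ := exists_generic (f.asFiber x)
    have hgx : f.fiberι (f x) g ⤳ x := by
      have h := hg.map (f.fiberι (f x)).continuous
      rwa [f.fiberι_asFiber] at h
    have hmax : FlatEquidim.IsFibreMax f (f.fiberι (f x) g) := by
      intro w hw he
      obtain ⟨w, rfl⟩ : w ∈ Set.range (f.fiberι (f x)) := by
        rw [Scheme.Hom.range_fiberι]; exact he.trans (FlatEquidim.fiberι_apply_eq f _ g)
      have hwg : w ⤳ g := (f.fiberι (f x)).isEmbedding.isInducing.specializes_iff.1 hw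
      have hsub : closure {w} ⊆ closure {g} := hgT.2 isIrreducible_singleton.closure hwg.closure_subset
      rw [(hwg.antisymm (specializes_iff_mem_closure.2 (hsub (subset_closure rfl)))).eq]
    have h1 := hc _ hmax
    rw [FlatEquidim.fiberι_apply_eq] at h1
    have h2 := CycLib.delta_le hX hgx
    have h3 := hdim _ (nontrivial_stalk_of_pullback f F x hx)
    omega
  · have e := congrArg ENat.toNat (length_stalk_pullback f F x)
    rw [ENat.toNat_mul] at e
    unfold Cyc.pullFun Cyc.sheafFun
    rw [e, Nat.cast_mul]
    by_cases hl : pullLen f x = 0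
    · have e2 : (Module.length (X.presheaf.stalk x) (X.presheaf.stalk x ⧸
          Ideal.map (f.stalkMap x).hom (maximalIdeal (Y.presheaf.stalk (f x))))).toNat = 0 := hl
      rw [e2]
      simp
    · have hd := hc x (isFibreMax_of_pullLen_ne_zero f hl)
      rw [if_pos hd]
      by_cases hk : δY (f x) = k
      · rw [if_pos hk, if_pos (by omega)]
      · rw [if_neg hk, if_neg (by omega), zero_mul]

end Groth.Agent.DimFunLift
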